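import Groth.Agent.Lib.Depth.CM
import Groth.Agent.Lib.AffDom.Formula

/-!
# Chains of primes under a Cohen–Macaulay module with full support
-/

set_option autoImplicit false

universe u

open IsLocalRing

namespace GrothLib.CMModule

variable {R : Type u} [CommRing R] [IsNoetherianRing R] [IsLocalRing R]
  {M : Type u} [AddCommGroup M] [Module R M] [Module.Finite R M]

omit [IsLocalRing R] in
theorem supportDim_localization_le (q : Ideal R) [q.IsPrime] :
    Module.supportDim (Localization.AtPrime q) (LocalizedModule q.primeCompl M) ≤ q.height := by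
  rw [← IsLocalization.AtPrime.ringKrullDim_eq_height q (Localization.AtPrime q)]
  exact Module.supportDim_le_ringKrullDim _ _

theorem localization_isCM_and_formula (hM : LocCoh.IsCohenMacaulayModule R M)
    (hsupp : Module.support R M = Set.univ) (q : Ideal R) [q.IsPrime] :
    (q.height : WithBot ℕ∞) + ringKrullDim (R ⧸ q) = ringKrullDim R ∧
      LocCoh.IsCohenMacaulayModule (Localization.AtPrime q) (LocalizedModule q.primeCompl M) ∧
      Module.support (Localization.AtPrime q) (LocalizedModule q.primeCompl M) = Set.univ := by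
  haveI := GrothLib.Depth.nontrivial_of_isCM hM
  haveI : IsNoetherianRing (Localization.AtPrime q) := IsLocalization.isNoetherianRing q.primeCompl _ inferInstance
  have hq : q ≠ ⊤ := Ideal.IsPrime.ne_top inferInstance
  obtain ⟨t, ht⟩ := ENat.ne_top_iff_exists.1 (GrothLib.Depth.idealDepth_ne_top (M := M) hq)
  have h1 := GrothLib.Depth.supportDim_eq_add_idealDepth t hq M hM ht.symm
  have hdimR : Module.supportDim R M = ringKrullDim R := by
    unfold Module.supportDim ringKrullDim
    rw [hsupp]
    exact Order.krullDim_eq_of_orderIso (OrderIso.setCongr Set.univ Set.univ rfl |>.trans OrderIso.Set.univ)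
  have hdimq : Module.supportDim R (M ⧸ (q • (⊤ : Submodule R M))) = ringKrullDim (R ⧸ q) := by
    unfold Module.supportDim
    rw [Module.support_quotient, hsupp, Set.univ_inter, ringKrullDim_quotient]
  rw [hdimR, hdimq] at h1
  have hqsupp : (⟨q, inferInstance⟩ : PrimeSpectrum R) ∈ Module.support R M := by rw [hsupp]; trivial
  haveI : Nontrivial (LocalizedModule q.primeCompl M) := Module.mem_support_iff.1 hqsupp
  have h2 : (t : ℕ∞) ≤ LocCoh.depth (Localization.AtPrime q) (LocalizedModule q.primeCompl M) :=
    ht.le.trans (GrothLib.Depth.idealDepth_le_localization q q le_rfl)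
  have h3 := GrothLib.Depth.depth_le_supportDim (Localization.AtPrime q) (LocalizedModule q.primeCompl M)
  have h4 := supportDim_localization_le (M := M) q
  have h5 := GrothLib.AffDom.height_add_ringKrullDim_quotient_le q
  have htq : (t : ℕ∞) ≤ q.height := WithBot.coe_le_coe.1 ((WithBot.coe_le_coe.2 h2).trans (h3.trans h4))
  have heq : (q.height : WithBot ℕ∞) + ringKrullDim (R ⧸ q) = ringKrullDim R := by
    refine le_antisymm h5 ?_
    rw [h1, add_comm (ringKrullDim (R ⧸ q))]
    exact add_le_add (WithBot.coe_le_coe.2 htq) le_rfl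
  have hqt : q.height ≤ (t : ℕ∞) := by
    haveI : Nontrivial (R ⧸ q) := Ideal.Quotient.nontrivial_iff.2 hq
    obtain ⟨a, ha⟩ := WithBot.ne_bot_iff_exists.1
      (ne_bot_of_le_ne_bot (WithBot.coe_ne_bot (a := (0 : ℕ∞))) (ringKrullDim_nonneg_of_nontrivial (R := R ⧸ q)))
    have hatop : a ≠ ⊤ := fun h => by
      have h6 := ringKrullDim_quotient_le (R := R) q
      rw [← ha, h] at h6
      obtain ⟨n, hn⟩ : ∃ n : ℕ, ringKrullDim R = n := by
        obtain ⟨n, hn⟩ := ENat.ne_top_iff_exists.1 (Ideal.height_ne_top (I := maximalIdeal R)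
          (maximalIdeal.isMaximal R).ne_top)
        exact ⟨n, by rw [← IsLocalRing.maximalIdeal_height_eq_ringKrullDim, ← hn]; rfl⟩
      rw [hn] at h6
      exact ENat.natCast_ne_top n (top_le_iff.1 (WithBot.coe_le_coe.1 h6))
    have h7 : (q.height : WithBot ℕ∞) + ringKrullDim (R ⧸ q) ≤ ringKrullDim (R ⧸ q) + ((t : ℕ∞) : WithBot ℕ∞) :=
      heq.le.trans h1.le
    rw [← ha, ← WithBot.coe_add, ← WithBot.coe_add, WithBot.coe_le_coe, add_comm a] at h7
    exact (ENat.add_le_add_iff_right hatop).1 h7
  refine ⟨heq, ?_, ?_⟩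
  · refine le_antisymm (h4.trans (WithBot.coe_le_coe.2 (hqt.trans h2))) h3
  · refine Set.eq_univ_of_forall fun x => ?_
    refine Module.mem_support_iff_of_finite.2 fun r hr => ?_
    obtain ⟨a, s, rfl⟩ := IsLocalization.exists_mk'_eq q.primeCompl r
    have hx : PrimeSpectrum.comap (algebraMap R (Localization.AtPrime q)) x ∈ Module.support R M := by
      rw [hsupp]; trivial
    obtain ⟨m, hm⟩ := Module.mem_support_iff'.1 hx
    rw [Module.mem_annihilator] at hr
    have h8 := hr (LocalizedModule.mkLinearMap q.primeCompl M m)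
    have h9 : algebraMap R (Localization.AtPrime q) a • LocalizedModule.mkLinearMap q.primeCompl M m = 0 := by
      rw [← IsLocalization.mk'_spec (Localization.AtPrime q) a s, mul_comm, mul_smul, h8, smul_zero]
    rw [algebraMap_smul, ← map_smul] at h9
    obtain ⟨c, hc⟩ := (IsLocalizedModule.eq_zero_iff q.primeCompl _).1 h9
    rw [Submonoid.smul_def, smul_smul] at hc
    by_contra ha
    refine hm ((c : R) * a) (fun h => ?_) hc
    rcases x.2.mem_or_mem (show algebraMap R _ (c : R) * algebraMap R _ a ∈ x.asIdeal by rw [← map_mul]; exact h) with h | h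
    · exact x.2.ne_top (x.asIdeal.eq_top_of_isUnit_mem h (IsLocalization.map_units (Localization.AtPrime q) c))
    · exact ha (by rw [IsLocalization.mk'_eq_mul_mk'_one]; exact x.asIdeal.mul_mem_right _ h)

theorem height_le_succ (hM : LocCoh.IsCohenMacaulayModule R M) (hsupp : Module.support R M = Set.univ)
    (p q : PrimeSpectrum R) (hpq : p ⋖ q) : q.asIdeal.height ≤ p.asIdeal.height + 1 := by
  haveI : IsNoetherianRing (Localization.AtPrime q.asIdeal) :=
    IsLocalization.isNoetherianRing q.asIdeal.primeCompl _ inferInstance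
  obtain ⟨-, hCM, hsu⟩ := localization_isCM_and_formula hM hsupp q.asIdeal
  let P : Ideal (Localization.AtPrime q.asIdeal) := p.asIdeal.map (algebraMap R _)
  have hdisj : Disjoint (q.asIdeal.primeCompl : Set R) p.asIdeal :=
    Set.disjoint_left.2 fun r hr hrp => hr (hpq.le hrp)
  haveI : P.IsPrime := IsLocalization.isPrime_of_isPrime_disjoint q.asIdeal.primeCompl _ _ p.2 hdisj
  have hPc : P.comap (algebraMap R _) = p.asIdeal :=
    IsLocalization.comap_map_of_isPrime_disjoint q.asIdeal.primeCompl _ p.2 hdisj
  obtain ⟨hform, -, -⟩ := localization_isCM_and_formula hCM hsu P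
  have hhP : P.height = p.asIdeal.height := by
    rw [← hPc]
    exact (IsLocalization.height_under q.asIdeal.primeCompl P).symm
  have hdim : ringKrullDim (Localization.AtPrime q.asIdeal ⧸ P) ≤ 1 := by
    rw [ringKrullDim_quotient]
    refine iSup_le fun l => ?_
    by_contra hl
    have hl2 : 2 ≤ l.length := by
      by_contra h
      exact hl (by exact_mod_cast Nat.le_of_lt_succ (not_le.1 h))
    let f : PrimeSpectrum (Localization.AtPrime q.asIdeal) → PrimeSpectrum R :=
      PrimeSpectrum.comap (algebraMap R _)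
    have hf : ∀ a b, a < b → f a < f b := fun a b hab =>
      lt_of_le_not_ge (Ideal.comap_mono hab.le) fun h => hab.not_ge (by
        show b.asIdeal ≤ a.asIdeal
        rw [← IsLocalization.map_under q.asIdeal.primeCompl _ a.asIdeal,
          ← IsLocalization.map_under q.asIdeal.primeCompl _ b.asIdeal]
        exact Ideal.map_mono h)
    have h01 : p < f (l ⟨1, by omega⟩).1 := by
      refine lt_of_le_of_lt ?_ (hf _ _ (l.strictMono (show (0 : Fin (l.length + 1)) < ⟨1, by omega⟩ from Nat.zero_lt_one)))
      show p.asIdeal ≤ _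
      rw [← hPc]
      exact Ideal.comap_mono (l 0).2
    have h12 : f (l ⟨1, by omega⟩).1 < q := by
      refine lt_of_lt_of_le (hf _ _ (l.strictMono (show (⟨1, by omega⟩ : Fin (l.length + 1)) < ⟨2, by omega⟩ from Nat.lt_succ_self 1))) ?_
      show (l ⟨2, _⟩).1.asIdeal.comap _ ≤ q.asIdeal
      intro r hr
      by_contra hrq
      exact (l ⟨2, by omega⟩).1.2.ne_top (Ideal.eq_top_of_isUnit_mem _ hr
        (IsLocalization.map_units (Localization.AtPrime q.asIdeal) (⟨r, hrq⟩ : q.asIdeal.primeCompl)))
    exact hpq.2 h01 h12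
  rw [IsLocalization.AtPrime.ringKrullDim_eq_height q.asIdeal (Localization.AtPrime q.asIdeal), hhP] at hform
  exact WithBot.coe_le_coe.1 (hform.symm.le.trans (add_le_add le_rfl hdim))

end GrothLib.CMModule
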